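import Mathlib

/-!
Sylow 2-subgroups of symmetric and alternating groups: they are their own normalisers
(`S_n` for every `n`, `A_n` for `n ≥ 6`).

The model set is `(Fin m × Bool) ⊕ Fin e` with `e ≤ 1`: `m` pairs and at most one extra point.
A Sylow 2-subgroup is the group of pair-preserving permutations inducing an element of a
Sylow 2-subgroup of `S_m` on the pairs.
-/

set_option autoImplicit false

namespace CfsgLib.SylowTwoSym

open Equiv

instance : Fact (Nat.Prime 2) := ⟨Nat.prime_two⟩

/-- Every Sylow 2-subgroup is self-normalising. -/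
def SelfNorm (G : Type*) [Group G] : Prop :=
  ∀ P : Sylow 2 G, ∀ g ∈ Subgroup.normalizer ((P : Subgroup G) : Set G), g ∈ (P : Subgroup G)

lemma selfNorm_of_subgroup {G : Type*} [Group G] [Finite G] (P₀ : Subgroup G)
    (hc : Nat.card P₀ = 2 ^ (Nat.card G).factorization 2)
    (hn : ∀ g : G, (∀ x ∈ P₀, g * x * g⁻¹ ∈ P₀) → g ∈ P₀) : SelfNorm G := by
  have hp : IsPGroup 2 P₀ := IsPGroup.of_card hc
  obtain ⟨S, hS⟩ := hp.exists_le_sylow
  have hSeq : P₀ = (S : Subgroup G) :=
    Subgroup.eq_of_le_of_card_ge hS (by rw [hc, S.card_eq_multiplicity])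
  have hNS : Subgroup.normalizer ((S : Subgroup G) : Set G) = (S : Subgroup G) := by
    refine le_antisymm (fun g hg => ?_) Subgroup.le_normalizer
    rw [← hSeq] at hg ⊢
    exact hn g fun x hx => (Subgroup.mem_normalizer_iff.1 hg x).1 hx
  intro P g hg
  have hidx : (Subgroup.normalizer ((P : Subgroup G) : Set G)).index =
      (Subgroup.normalizer ((S : Subgroup G) : Set G)).index := by
    exact P.card_eq_index_normalizer.symm.trans S.card_eq_index_normalizer
  have hcard : Nat.card (Subgroup.normalizer ((P : Subgroup G) : Set G)) =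
      Nat.card (P : Subgroup G) := by
    have h1 := Subgroup.card_mul_index (Subgroup.normalizer ((P : Subgroup G) : Set G))
    have h2 := Subgroup.card_mul_index (Subgroup.normalizer ((S : Subgroup G) : Set G))
    rw [hidx] at h1
    have h3 := Nat.eq_of_mul_eq_mul_right
      (Nat.pos_of_ne_zero Subgroup.index_ne_zero_of_finite) (h1.trans h2.symm)
    rw [h3, hNS, P.card_eq_multiplicity, S.card_eq_multiplicity]
  rw [← Subgroup.eq_of_le_of_card_ge Subgroup.le_normalizer hcard.le] at hg
  exact hg

lemma SelfNorm.congr {G K : Type*} [Group G] [Group K] [Finite G] (e : G ≃* K)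
    (h : SelfNorm G) : SelfNorm K := by
  have : Finite K := Finite.of_equiv G e.toEquiv
  obtain ⟨P⟩ : Nonempty (Sylow 2 G) := inferInstance
  refine selfNorm_of_subgroup ((P : Subgroup G).map e.toMonoidHom) ?_ fun g hg => ?_
  · rw [Subgroup.card_map_of_injective e.injective, P.card_eq_multiplicity,
      Nat.card_congr e.toEquiv]
  · have hmem : ∀ x ∈ (P : Subgroup G), e.symm g * x * (e.symm g)⁻¹ ∈ (P : Subgroup G) := by
      intro x hx
      obtain ⟨y, hy, hyx⟩ := hg (e x) (Subgroup.mem_map_of_mem _ hx)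
      have : e.symm g * x * (e.symm g)⁻¹ = y := by
        apply e.injective
        simpa using hyx.symm
      rw [this]; exact hy
    refine ⟨e.symm g, h P _ ?_, by simp⟩
    refine (Subgroup.mem_normalizer_iff).2 fun x => ⟨hmem x, fun hx => ?_⟩
    have key : (MulAut.conj (e.symm g)).toMonoidHom '' ((P : Subgroup G) : Set G) =
        ((P : Subgroup G) : Set G) :=
      (Set.eq_of_subset_of_ncard_le
        (by rintro _ ⟨x, hx, rfl⟩; exact hmem x hx)
        (le_of_eq (Set.ncard_image_of_injective _ (MulAut.conj (e.symm g)).injective).symm))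
    obtain ⟨y, hy, hyx⟩ := (Set.ext_iff.1 key _).2 hx
    have : y = x := by simpa using hyx
    exact this ▸ hy

section Model

variable {m e : ℕ}

/-- `m` pairs and `e` further points. -/
abbrev Pts (m e : ℕ) := (Fin m × Bool) ⊕ Fin e

/-- `σ` fixes the extra points and maps pair `a` to pair `q a`. -/
def Over (σ : Perm (Pts m e)) (q : Perm (Fin m)) : Prop :=
  (∀ a b, ∃ c, σ (.inl (a, b)) = .inl (q a, c)) ∧ ∀ x, σ (.inr x) = .inr x

lemma over_one : Over (1 : Perm (Pts m e)) 1 := ⟨fun _ b => ⟨b, rfl⟩, fun _ => rfl⟩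

lemma Over.mul {σ τ : Perm (Pts m e)} {q r : Perm (Fin m)} (hσ : Over σ q) (hτ : Over τ r) :
    Over (σ * τ) (q * r) := by
  refine ⟨fun a b => ?_, fun x => ?_⟩
  · obtain ⟨c, hc⟩ := hτ.1 a b
    obtain ⟨d, hd⟩ := hσ.1 (r a) c
    exact ⟨d, by rw [Perm.mul_apply, hc, hd]; rfl⟩
  · rw [Perm.mul_apply, hτ.2, hσ.2]

lemma Over.unique {σ : Perm (Pts m e)} {q r : Perm (Fin m)} (hq : Over σ q) (hr : Over σ r) :
    q = r := by
  refine Equiv.ext fun a => ?_
  obtain ⟨c, hc⟩ := hq.1 a false
  obtain ⟨d, hd⟩ := hr.1 a false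
  rw [hc] at hd
  simp at hd
  exact hd.1

/-- The standard element over `q` with flips `f`. -/
def mkPerm (q : Perm (Fin m)) (f : Fin m → Bool) : Perm (Pts m e) :=
  Equiv.sumCongr
    { toFun := fun p => (q p.1, xor p.2 (f p.1))
      invFun := fun p => (q.symm p.1, xor p.2 (f (q.symm p.1)))
      left_inv := fun p => by obtain ⟨a, b⟩ := p; simp
      right_inv := fun p => by obtain ⟨a, b⟩ := p; simp }
    (Equiv.refl _)

lemma mkPerm_inl (q : Perm (Fin m)) (f : Fin m → Bool) (a : Fin m) (b : Bool) :
    mkPerm (e := e) q f (.inl (a, b)) = .inl (q a, xor b (f a)) := rfl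

lemma over_mkPerm (q : Perm (Fin m)) (f : Fin m → Bool) : Over (mkPerm (e := e) q f) q :=
  ⟨fun a b => ⟨_, mkPerm_inl q f a b⟩, fun _ => rfl⟩

lemma Over.exists_mk {σ : Perm (Pts m e)} {q : Perm (Fin m)} (h : Over σ q) :
    ∃ f, σ = mkPerm q f := by
  choose c hc using h.1
  refine ⟨fun a => c a false, Equiv.ext fun x => ?_⟩
  rcases x with ⟨a, b⟩ | x
  · rw [mkPerm_inl, hc a b]
    have hne : c a true ≠ c a false := fun heq => by
      have := σ.injective ((hc a true).trans ((congrArg _ (congrArg _ heq)).trans (hc a false).symm))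
      simp at this
    cases b
    · simp
    · revert hne; cases c a true <;> cases c a false <;> simp
  · exact h.2 x

/-- Preimage of a subgroup of `S_m`. -/
def Pre (Q : Subgroup (Perm (Fin m))) : Subgroup (Perm (Pts m e)) where
  carrier := {σ | ∃ q ∈ Q, Over σ q}
  one_mem' := ⟨1, Q.one_mem, over_one⟩
  mul_mem' := by
    rintro a b ⟨q, hq, ha⟩ ⟨r, hr, hb⟩
    exact ⟨q * r, Q.mul_mem hq hr, ha.mul hb⟩
  inv_mem' := by
    rintro a ⟨q, hq, ha⟩
    refine ⟨q⁻¹, Q.inv_mem hq, fun c d => ?_, fun x => ?_⟩
    · obtain ⟨f, rfl⟩ := ha.exists_mk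
      exact ⟨xor d (f (q⁻¹ c)), Perm.inv_eq_iff_eq.2 (by simp [mkPerm_inl])⟩
    · exact Perm.inv_eq_iff_eq.2 (ha.2 x).symm

lemma mkPerm_injective {q r : Perm (Fin m)} {f g : Fin m → Bool}
    (h : mkPerm (e := e) q f = mkPerm r g) : q = r ∧ f = g := by
  have hq : q = r := (over_mkPerm q f).unique (h ▸ over_mkPerm r g)
  subst hq
  refine ⟨rfl, funext fun a => ?_⟩
  have := congrArg (fun s : Perm (Pts m e) => s (.inl (a, false))) h
  simpa [mkPerm_inl] using this

lemma card_pre (Q : Subgroup (Perm (Fin m))) :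
    Nat.card (Pre (e := e) Q) = Nat.card Q * 2 ^ m := by
  let φ : Q × (Fin m → Bool) → Pre (e := e) Q :=
    fun x => ⟨mkPerm x.1 x.2, x.1, x.1.2, over_mkPerm _ _⟩
  have hφ : Function.Bijective φ := by
    refine ⟨fun x y h => ?_, fun s => ?_⟩
    · obtain ⟨h1, h2⟩ := mkPerm_injective (congrArg Subtype.val h)
      exact Prod.ext (Subtype.ext h1) h2
    · obtain ⟨q, hq, ho⟩ := s.2
      obtain ⟨f, hf⟩ := ho.exists_mk
      exact ⟨(⟨q, hq⟩, f), Subtype.ext hf.symm⟩
  rw [← Nat.card_congr (Equiv.ofBijective φ hφ), Nat.card_prod]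
  simp [Nat.card_eq_fintype_card]

lemma factorization_card_perm (he : e ≤ 1) :
    (Nat.card (Perm (Pts m e))).factorization 2 =
      (Nat.card (Perm (Fin m))).factorization 2 + m := by
  rw [Nat.card_perm, Nat.card_perm]
  simp only [Nat.card_eq_fintype_card, Fintype.card_sum, Fintype.card_prod,
    Fintype.card_bool, Fintype.card_fin, Nat.factorization_def _ Nat.prime_two]
  rw [mul_comm m 2, padicValNat_factorial_mul_add m (by omega : e < 2), padicValNat_factorial_mul]

/-- The transposition of the pair `a`. -/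
def pairSwap (a : Fin m) : Perm (Pts m e) := Equiv.swap (.inl (a, false)) (.inl (a, true))

lemma over_pairSwap (a : Fin m) : Over (pairSwap (e := e) a) 1 := by
  refine ⟨fun c b => ?_, fun x => Equiv.swap_apply_of_ne_of_ne (by simp) (by simp)⟩
  by_cases h : c = a
  · subst h
    cases b
    · exact ⟨true, Equiv.swap_apply_left _ _⟩
    · exact ⟨false, Equiv.swap_apply_right _ _⟩
  · exact ⟨b, Equiv.swap_apply_of_ne_of_ne (by simp [h]) (by simp [h])⟩

lemma sign_pairSwap (a : Fin m) : Perm.sign (pairSwap (e := e) a) = -1 :=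
  Perm.sign_swap (by simp)

/-- The other point of the same pair. -/
def partner : Pts m e → Pts m e
  | .inl (a, b) => .inl (a, !b)
  | .inr x => .inr x

lemma partner_partner (u : Pts m e) : partner (partner u) = u := by
  rcases u with ⟨a, b⟩ | x <;> simp [partner]

lemma Over.partner_apply {σ : Perm (Pts m e)} {q : Perm (Fin m)} (h : Over σ q) (u : Pts m e) :
    σ (partner u) = partner (σ u) := by
  obtain ⟨f, rfl⟩ := h.exists_mk
  rcases u with ⟨a, b⟩ | x
  · simp only [partner, mkPerm_inl]; cases b <;> cases f a <;> simp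
  · rfl

lemma swap_mem_over {u v : Pts m e} {q : Perm (Fin m)} (huv : u ≠ v) (h : Over (Equiv.swap u v) q) :
    v = partner u := by
  by_contra hne
  have h1 := h.partner_apply u
  rw [Equiv.swap_apply_left] at h1
  by_cases hpu : partner u = u
  · rcases u with ⟨a, b⟩ | x
    · simp [partner] at hpu
    · have := h.2 x; rw [Equiv.swap_apply_left] at this; exact huv this.symm
  · rw [Equiv.swap_apply_of_ne_of_ne hpu (fun h' => hne h'.symm)] at h1
    exact huv (by have := congrArg partner h1; rwa [partner_partner, partner_partner] at this)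

/-- If `g` sends every pair onto a pair, it lies over some permutation of the pairs. -/
lemma exists_over (he : e ≤ 1) (g : Perm (Pts m e))
    (hp : ∀ a, g (.inl (a, true)) = partner (g (.inl (a, false)))) : ∃ q, Over g q := by
  have hinl : ∀ a b, ∃ p, g (.inl (a, b)) = .inl p := by
    intro a b
    have key : ∀ x, g (.inl (a, false)) ≠ .inr x := by
      intro x hx
      have h := hp a
      rw [hx] at h
      have := g.injective (h.trans hx.symm)
      simp at this
    rcases hfa : g (.inl (a, false)) with p | x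
    · cases b
      · exact ⟨p, hfa⟩
      · exact ⟨(p.1, !p.2), by rw [hp, hfa]; rfl⟩
    · exact absurd hfa (key x)
  choose p hp' using hinl
  have hfst : ∀ a b, (p a b).1 = (p a false).1 := by
    intro a b; cases b
    · rfl
    · have h := hp a
      rw [hp', hp'] at h
      simp only [partner] at h
      exact (congrArg Prod.fst (Sum.inl.inj h) :)
  have hinj : Function.Injective fun a => (p a false).1 := by
    intro a c hac
    simp only at hac
    have hsnd : ∀ d, (p d true).2 = !(p d false).2 := fun d => by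
      have h := hp d; rw [hp', hp'] at h; simp only [partner] at h; exact congrArg Prod.snd (Sum.inl.inj h)
    obtain ⟨b, hb⟩ : ∃ b, p c b = p a false := by
      by_cases h : (p c false).2 = (p a false).2
      · exact ⟨false, Prod.ext hac.symm h⟩
      · refine ⟨true, Prod.ext (by rw [hfst, hac]) ?_⟩
        rw [hsnd]; revert h; cases (p c false).2 <;> cases (p a false).2 <;> simp
    have := g.injective ((hp' c b).trans ((congrArg Sum.inl hb).trans (hp' a false).symm))
    simp at this
    exact this.1.symm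
  refine ⟨Equiv.ofBijective _ (Finite.injective_iff_bijective.1 hinj), fun a b => ⟨(p a b).2, ?_⟩,
    fun x => ?_⟩
  · rw [hp', Equiv.ofBijective_apply, ← hfst a b]
  · rcases hx : g (.inr x) with ⟨c, d⟩ | y
    · obtain ⟨a, ha⟩ := (Finite.injective_iff_surjective.1 hinj) c
      simp only at ha
      obtain ⟨b, hb⟩ : ∃ b, p a b = (c, d) := by
        by_cases h : (p a false).2 = d
        · exact ⟨false, Prod.ext ha h⟩
        · refine ⟨true, Prod.ext ((hfst a true).trans ha) ?_⟩
          have h' := hp a; rw [hp', hp'] at h'; simp only [partner] at h'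
          have h2 := congrArg Prod.snd (Sum.inl.inj h')
          simp only at h2; rw [h2]; revert h; cases (p a false).2 <;> cases d <;> simp
      have h3 := g.injective (hx.trans ((congrArg Sum.inl hb.symm).trans (hp' a b).symm))
      simp at h3
    · have : y = x := by
        ext; have := x.2; have := y.2; omega
      rw [this]

/-- Conjugation descends. -/
lemma conj_over {g σ : Perm (Pts m e)} {q r r' : Perm (Fin m)} (hg : Over g q)
    (hσ : Over σ r) (hr' : Over (g * σ * g⁻¹) r') : q * r * q⁻¹ = r' := by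
  have h1 : Over (g * σ) (q * r) := hg.mul hσ
  have h2 : Over (g * σ) (r' * q) := by
    have := hr'.mul hg; rwa [inv_mul_cancel_right] at this
  rw [mul_inv_eq_iff_eq_mul]
  exact h1.unique h2

lemma mem_pre_of_over {Q : Sylow 2 (Perm (Fin m))} (ih : SelfNorm (Perm (Fin m)))
    {g : Perm (Pts m e)} {q : Perm (Fin m)} (hg : Over g q)
    (h : ∀ r ∈ (Q : Subgroup (Perm (Fin m))), ∃ σ, Over σ r ∧
      g * σ * g⁻¹ ∈ Pre (e := e) (Q : Subgroup (Perm (Fin m)))) :
    g ∈ Pre (e := e) (Q : Subgroup (Perm (Fin m))) := by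
  have hmem : ∀ r ∈ (Q : Subgroup (Perm (Fin m))), q * r * q⁻¹ ∈ (Q : Subgroup _) := by
    intro r hr
    obtain ⟨σ, hσ, r', hr', ho⟩ := h r hr
    rw [conj_over hg hσ ho]; exact hr'
  refine ⟨q, ih Q q ?_, hg⟩
  refine (Subgroup.mem_normalizer_iff).2 fun x => ⟨hmem x, fun hx => ?_⟩
  have key : (MulAut.conj q).toMonoidHom '' ((Q : Subgroup (Perm (Fin m))) : Set (Perm (Fin m))) =
      ((Q : Subgroup (Perm (Fin m))) : Set (Perm (Fin m))) :=
    (Set.eq_of_subset_of_ncard_le
      (by rintro _ ⟨x, hx, rfl⟩; exact hmem x hx)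
      (le_of_eq (Set.ncard_image_of_injective _ (MulAut.conj q).injective).symm))
  obtain ⟨y, hy, hyx⟩ := (Set.ext_iff.1 key _).2 hx
  have : y = x := by simpa using hyx
  exact this ▸ hy

lemma conj_swap (g : Perm (Pts m e)) (u v : Pts m e) :
    g * Equiv.swap u v * g⁻¹ = Equiv.swap (g u) (g v) := by
  rw [Equiv.swap_apply_apply]

lemma selfNorm_pts_perm (he : e ≤ 1) (ih : SelfNorm (Perm (Fin m))) :
    SelfNorm (Perm (Pts m e)) := by
  obtain ⟨Q⟩ : Nonempty (Sylow 2 (Perm (Fin m))) := inferInstance
  refine selfNorm_of_subgroup (Pre (e := e) (Q : Subgroup _)) ?_ fun g hg => ?_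
  · rw [card_pre, Q.card_eq_multiplicity, factorization_card_perm he, pow_add]
  · obtain ⟨q, hq⟩ := exists_over he g fun a => by
      obtain ⟨r, -, hr⟩ := hg (pairSwap a) ⟨1, one_mem _, over_pairSwap a⟩
      rw [pairSwap, conj_swap] at hr
      exact swap_mem_over (fun h => by simpa using g.injective h) hr
    exact mem_pre_of_over ih hq fun r hr =>
      ⟨mkPerm r (fun _ => false), over_mkPerm _ _, hg _ ⟨r, hr, over_mkPerm _ _⟩⟩

/-- In a pair-preserving product of two disjoint transpositions, one of which is not a pair,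
the other is determined. -/
lemma swap_mul_over {u v y z : Pts m e} {q : Perm (Fin m)} (hne : v ≠ partner u)
    (hu : u ≠ v) (hy : u ≠ y) (hz : u ≠ z)
    (h : Over (Equiv.swap u v * Equiv.swap y z) q) :
    Equiv.swap y z = Equiv.swap (partner u) (partner v) := by
  have hxu : (Equiv.swap u v * Equiv.swap y z) u = v := by
    rw [Perm.mul_apply, Equiv.swap_apply_of_ne_of_ne hy hz, Equiv.swap_apply_left]
  have hpu : partner u ≠ u := by
    rcases u with ⟨a, b⟩ | x
    · simp [partner]
    · exfalso
      have := h.2 x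
      rw [hxu] at this
      exact hu this.symm
  have h1 := h.partner_apply u
  rw [hxu] at h1
  have hpuv : partner u ≠ v := fun h' => hne h'.symm
  have hpv_u : partner v ≠ u := fun h' => hne (by rw [← h', partner_partner])
  have hpv_v : partner v ≠ v := fun h' => by
    rcases v with ⟨c, d⟩ | w
    · simp [partner] at h'
    · have := h.2 w
      have h2 : (Equiv.swap u (Sum.inr w : Pts m e) * Equiv.swap y z) u = Sum.inr w := hxu
      exact hu ((Equiv.swap u (Sum.inr w : Pts m e) * Equiv.swap y z).injective (h2.trans this.symm))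
  have h3 : Equiv.swap y z (partner u) = partner v := by
    rw [Perm.mul_apply] at h1
    have := congrArg (Equiv.swap u v) h1
    rw [Equiv.swap_apply_self, Equiv.swap_apply_of_ne_of_ne hpv_u hpv_v] at this
    exact this
  have hne' : partner u ≠ partner v := fun h' => hu (by
    rw [← partner_partner u, h', partner_partner])
  by_cases hy' : partner u = y
  · rw [← hy', Equiv.swap_apply_left] at h3
    rw [← hy', h3]
  · by_cases hz' : partner u = z
    · rw [← hz', Equiv.swap_apply_right] at h3
      rw [← hz', h3, Equiv.swap_comm]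
    · rw [Equiv.swap_apply_of_ne_of_ne hy' hz'] at h3
      exact absurd h3 hne'

lemma selfNorm_pts_alt (he : e ≤ 1) (hm : 3 ≤ m) (ih : SelfNorm (Perm (Fin m))) :
    SelfNorm (alternatingGroup (Pts m e)) := by
  obtain ⟨Q⟩ : Nonempty (Sylow 2 (Perm (Fin m))) := inferInstance
  set P := Pre (e := e) (Q : Subgroup (Perm (Fin m)))
  have a0 : Fin m := ⟨0, by omega⟩
  have hodd : ∀ σ ∈ P, ∃ τ ∈ P, Perm.sign τ = 1 ∧ (τ = σ ∨ τ = pairSwap a0 * σ) ∧
      ∀ r, Over σ r → Over τ r := by
    intro σ hσ
    rcases Int.units_eq_one_or (Perm.sign σ) with h | h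
    · exact ⟨σ, hσ, h, Or.inl rfl, fun _ hr => hr⟩
    · refine ⟨_, P.mul_mem ⟨1, one_mem _, over_pairSwap a0⟩ hσ, ?_, Or.inr rfl, fun r hr => ?_⟩
      · rw [map_mul, sign_pairSwap, h]; rfl
      · have := (over_pairSwap a0).mul hr; rwa [one_mul] at this
  have : Nontrivial (Pts m e) := ⟨⟨.inl (a0, false), .inl (a0, true), by simp⟩⟩
  refine selfNorm_of_subgroup (P.subgroupOf (alternatingGroup (Pts m e))) ?_ fun g hg => ?_
  · have hPc : Nat.card P = 2 ^ (Nat.card (Perm (Pts m e))).factorization 2 := by
      rw [card_pre, Q.card_eq_multiplicity, factorization_card_perm he, pow_add]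
    have h2 : 2 * Nat.card (P.subgroupOf (alternatingGroup (Pts m e))) = Nat.card P := by
      let s : P →* ℤˣ := Perm.sign.comp P.subtype
      have hs : Function.Surjective s := by
        intro x
        rcases Int.units_eq_one_or x with rfl | rfl
        · exact ⟨1, map_one s⟩
        · exact ⟨⟨pairSwap a0, 1, one_mem _, over_pairSwap a0⟩, sign_pairSwap a0⟩
      have e1 : P.subgroupOf (alternatingGroup (Pts m e)) ≃ s.ker :=
        { toFun := fun x => ⟨⟨x.1.1, x.2⟩, x.1.2⟩
          invFun := fun x => ⟨⟨x.1.1, x.2⟩, x.1.2⟩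
          left_inv := fun _ => rfl
          right_inv := fun _ => rfl }
      rw [Nat.card_congr e1, ← Subgroup.card_mul_index s.ker, Subgroup.index_ker,
        MonoidHom.range_eq_top.2 hs, Nat.card_congr Subgroup.topEquiv.toEquiv, mul_comm 2]
      simp [Nat.card_eq_fintype_card]
    have hA := two_mul_nat_card_alternatingGroup (α := Pts m e)
    have hf : (Nat.card (Perm (Pts m e))).factorization 2 =
        (Nat.card (alternatingGroup (Pts m e))).factorization 2 + 1 := by
      rw [← hA, Nat.factorization_mul two_ne_zero Nat.card_pos.ne']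
      simp [Nat.prime_two.factorization_self, add_comm]
    rw [hf, pow_succ'] at hPc
    omega
  · have hg' : ∀ σ ∈ P, Perm.sign σ = 1 → (g : Perm (Pts m e)) * σ * (g : Perm (Pts m e))⁻¹ ∈ P :=
      fun σ hσ hs => hg ⟨σ, hs⟩ hσ
    have hpair : ∀ a, (g : Perm (Pts m e)) (.inl (a, true)) =
        partner ((g : Perm (Pts m e)) (.inl (a, false))) := by
      intro a
      by_contra hne
      obtain ⟨b, hb, c, hc, hbc⟩ : ∃ b, b ≠ a ∧ ∃ c, c ≠ a ∧ b ≠ c := by
        have : 2 ≤ ((Finset.univ : Finset (Fin m)).erase a).card := by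
          rw [Finset.card_erase_of_mem (Finset.mem_univ a), Finset.card_univ, Fintype.card_fin]
          omega
        obtain ⟨b, hb, c, hc, hbc⟩ := Finset.one_lt_card.1 this
        exact ⟨b, Finset.ne_of_mem_erase hb, c, Finset.ne_of_mem_erase hc, hbc⟩
      have hdet : ∀ d, d ≠ a →
          (g : Perm (Pts m e)) * pairSwap d * (g : Perm (Pts m e))⁻¹ =
            Equiv.swap (partner ((g : Perm (Pts m e)) (.inl (a, false))))
              (partner ((g : Perm (Pts m e)) (.inl (a, true)))) := by
        intro d hd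
        obtain ⟨r, -, hr⟩ := hg' (pairSwap a * pairSwap d)
          (P.mul_mem ⟨1, one_mem _, over_pairSwap a⟩ ⟨1, one_mem _, over_pairSwap d⟩)
          (by rw [map_mul, sign_pairSwap, sign_pairSwap]; rfl)
        rw [← conj_mul, pairSwap, pairSwap, conj_swap, conj_swap] at hr
        rw [pairSwap, conj_swap]
        exact swap_mul_over hne (fun h => by simpa using (g : Perm (Pts m e)).injective h)
          (fun h => hd (by simpa using ((g : Perm (Pts m e)).injective h).symm))
          (fun h => by simpa using (g : Perm (Pts m e)).injective h) hr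
      have heq := mul_left_cancel (mul_right_cancel ((hdet b hb).trans (hdet c hc).symm))
      have := congrArg (fun s : Perm (Pts m e) => s (.inl (b, false))) heq
      simp only [pairSwap, Equiv.swap_apply_left] at this
      rw [Equiv.swap_apply_of_ne_of_ne (by simp [hbc]) (by simp [hbc])] at this
      simp at this
    obtain ⟨q, hq⟩ := exists_over he (g : Perm (Pts m e)) hpair
    refine mem_pre_of_over ih hq fun r hr => ?_
    obtain ⟨τ, hτ, hsign, -, hover⟩ := hodd (mkPerm r fun _ => false) ⟨r, hr, over_mkPerm _ _⟩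
    exact ⟨τ, hover r (over_mkPerm _ _), hg' τ hτ hsign⟩

end Model

/-- `Pts m e ≃ Fin n`. -/
noncomputable def ptsEquiv {n m e : ℕ} (h : 2 * m + e = n) : Pts m e ≃ Fin n :=
  Fintype.equivFinOfCardEq (by simp [Fintype.card_sum, Fintype.card_prod]; omega)

theorem selfNorm_perm : ∀ n : ℕ, SelfNorm (Perm (Fin n)) := by
  intro n
  induction n using Nat.strong_induction_on with
  | _ n ih =>
    rcases Nat.lt_or_ge n 2 with h | h
    · intro P g _
      have : Subsingleton (Fin n) := Fin.subsingleton_iff_le_one.2 (by omega)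
      rw [Subsingleton.elim g 1]; exact one_mem _
    · exact (selfNorm_pts_perm (m := n / 2) (e := n % 2) (by omega)
        (ih (n / 2) (by omega))).congr (ptsEquiv (by omega)).permCongrHom

theorem selfNorm_alternating (n : ℕ) (hn : 6 ≤ n) : SelfNorm (alternatingGroup (Fin n)) :=
  (selfNorm_pts_alt (m := n / 2) (e := n % 2) (by omega) (by omega)
    (selfNorm_perm (n / 2))).congr (ptsEquiv (by omega)).altCongrHom

end CfsgLib.SylowTwoSym
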