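import Cfsg.Agent.Lib.SylowTwoSym.Basic

/-!
When is an element of 2-power order of a symmetric group in a single Sylow 2-subgroup.

A Sylow 2-subgroup centralises exactly one involution with at most one fixed point, so the
question reduces to the permutation induced on the orbits of that involution.
-/

set_option autoImplicit false
set_option linter.style.haveILetI false

namespace CfsgLib.SylowTwoSym.Unique

open Equiv Equiv.Perm

variable {α : Type*} [Fintype α] [DecidableEq α]

/-- An involution with at most one fixed point. -/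
def IsFull (ι : Perm α) : Prop :=
  ι * ι = 1 ∧ ∀ a b, ι a = a → ι b = b → a = b

omit [Fintype α] [DecidableEq α] in
theorem IsFull.apply_apply {ι : Perm α} (h : IsFull ι) (a : α) : ι (ι a) = a :=
  Equiv.congr_fun h.1 a

omit [Fintype α] [DecidableEq α] in
theorem IsFull.moved {ι : Perm α} (h : IsFull ι) {a : α} (ha : ι a ≠ a) : ι (ι a) ≠ ι a :=
  fun e => ha (ι.injective e)

/-- The cycle length of a point. -/
noncomputable def per (x : Perm α) (a : α) : ℕ := orderOf (x.cycleOf a)

theorem zpow_apply_eq_iff (x : Perm α) (a : α) (i : ℤ) : (x ^ i) a = a ↔ (per x a : ℤ) ∣ i := by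
  rw [← cycleOf_zpow_apply_self, per, orderOf_dvd_iff_zpow_eq_one]
  refine ⟨fun h => ?_, fun h => by rw [h]; rfl⟩
  by_cases ha : x a = a
  · rw [(cycleOf_eq_one_iff x).2 ha, _root_.one_zpow]
  · rw [← zpow_mod_orderOf] at h ⊢
    obtain ⟨m, hm⟩ := Int.eq_ofNat_of_zero_le (Int.emod_nonneg i (b := (orderOf (x.cycleOf a) : ℤ)) (by have := orderOf_pos (x.cycleOf a); omega))
    rw [hm, zpow_natCast] at h ⊢
    exact (IsCycle.pow_eq_one_iff' (isCycle_cycleOf x ha) (by rwa [cycleOf_apply_self])).2 h

theorem pow_apply_eq_iff (x : Perm α) (a : α) (i : ℕ) : (x ^ i) a = a ↔ per x a ∣ i := by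
  rw [← Int.natCast_dvd_natCast, ← zpow_apply_eq_iff, zpow_natCast]

theorem per_pos (x : Perm α) (a : α) : 0 < per x a := orderOf_pos _

theorem per_eq_one_iff (x : Perm α) (a : α) : per x a = 1 ↔ x a = a := by
  rw [← Nat.dvd_one, ← pow_apply_eq_iff, pow_one]

theorem per_congr {x : Perm α} {a b : α} (h : x.SameCycle a b) : per x a = per x b := by
  rw [per, per, h.cycleOf_eq]

theorem per_commute {x ι : Perm α} (h : Commute ι x) (a : α) : per x (ι a) = per x a := by
  refine Nat.dvd_antisymm ?_ ?_ <;> rw [← pow_apply_eq_iff]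
  · have e := Equiv.congr_fun (h.pow_right (per x a)).eq a
    rw [Perm.mul_apply, Perm.mul_apply, (pow_apply_eq_iff x a _).2 dvd_rfl] at e
    exact e.symm
  · have e := Equiv.congr_fun (h.pow_right (per x (ι a))).eq a
    rw [Perm.mul_apply, Perm.mul_apply, (pow_apply_eq_iff x (ι a) _).2 dvd_rfl] at e
    exact ι.injective e

omit [Fintype α] [DecidableEq α] in
theorem sameCycle_commute {x ι : Perm α} (h : Commute ι x) {a b : α} (hab : x.SameCycle a b) :
    x.SameCycle (ι a) (ι b) := by
  obtain ⟨i, rfl⟩ := hab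
  exact ⟨i, (Equiv.congr_fun (h.zpow_right i).eq a).symm⟩

theorem per_two_pow {x : Perm α} (hx : ∃ k, x ^ 2 ^ k = 1) (a : α) : ∃ j, per x a = 2 ^ j := by
  obtain ⟨k, hk⟩ := hx
  obtain ⟨j, -, hj⟩ := (Nat.dvd_prime_pow Nat.prime_two).1
    ((pow_apply_eq_iff x a _).1 (by rw [hk]; rfl : (x ^ 2 ^ k) a = a))
  exact ⟨j, hj⟩

theorem two_dvd_per {x : Perm α} (hx : ∃ k, x ^ 2 ^ k = 1) {a : α} (ha : x a ≠ a) : 2 ∣ per x a := by
  obtain ⟨j, hj⟩ := per_two_pow hx a
  rcases j with _ | j
  · exact absurd ((per_eq_one_iff x a).1 hj) ha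
  · exact hj ▸ dvd_pow_self 2 (Nat.succ_ne_zero j)

/-! ### The orbits of a full involution -/

section Orbits

variable {ι : Perm α} (hι : IsFull ι)

/-- The pairs. -/
abbrev setoid : Setoid {a : α // ι a ≠ a} where
  r a b := (b : α) = a ∨ (b : α) = ι a
  iseqv := by
    refine ⟨fun a => Or.inl rfl, ?_, ?_⟩
    · rintro a b (h | h)
      · exact Or.inl h.symm
      · exact Or.inr (by rw [h, hι.apply_apply])
    · rintro a b c (h | h) (h' | h') <;> rw [h] at h'
      · exact Or.inl h'
      · exact Or.inr h'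
      · exact Or.inr h'
      · exact Or.inl (by rw [h', hι.apply_apply])

/-- The set of pairs. -/
abbrev Orb : Type _ := Quotient (setoid hι)

omit [Fintype α] [DecidableEq α] in
theorem moved_apply {g : Perm α} (hg : g ∈ Subgroup.centralizer ({ι} : Set (Perm α))) (a : α) :
    ι (g a) = g (ι a) :=
  (Equiv.congr_fun (Subgroup.mem_centralizer_singleton_iff.1 hg) a).symm

/-- The induced map. -/
def bar (g : Subgroup.centralizer ({ι} : Set (Perm α))) : Orb hι → Orb hι :=
  Quotient.map (fun a => ⟨(g : Perm α) a, fun e => a.2 ((g : Perm α).injective (by rw [← moved_apply g.2]; exact e))⟩)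
    (by
      rintro a b (h | h)
      · exact Or.inl (congrArg (g : Perm α) h)
      · exact Or.inr (by show (g : Perm α) b = ι ((g : Perm α) a); rw [moved_apply g.2, h]))

/-- The action on the pairs. -/
def toOrb : Subgroup.centralizer ({ι} : Set (Perm α)) →* Perm (Orb hι) where
  toFun g :=
    { toFun := bar hι g
      invFun := bar hι g⁻¹
      left_inv := fun c => Quotient.inductionOn c fun a =>
        Quotient.sound (Or.inl (by simp))
      right_inv := fun c => Quotient.inductionOn c fun a =>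
        Quotient.sound (Or.inl (by simp)) }
  map_one' := Equiv.ext fun c => Quotient.inductionOn c fun a => Quotient.sound (Or.inl rfl)
  map_mul' g h := Equiv.ext fun c => Quotient.inductionOn c fun a => Quotient.sound (Or.inl rfl)

theorem toOrb_pow (g : Subgroup.centralizer ({ι} : Set (Perm α))) (j : ℕ) (a : {a : α // ι a ≠ a}) :
    ((toOrb hι g) ^ j) (Quotient.mk _ a) = Quotient.mk _ a ↔
      ((g : Perm α) ^ j) a = a ∨ ((g : Perm α) ^ j) a = ι a := by
  rw [← map_pow]
  show Quotient.mk _ _ = Quotient.mk _ a ↔ _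
  rw [Quotient.eq]
  show ((a : α) = ((g ^ j : Subgroup.centralizer ({ι} : Set (Perm α))) : Perm α) a ∨
    (a : α) = ι (((g ^ j : Subgroup.centralizer ({ι} : Set (Perm α))) : Perm α) a)) ↔ _
  rw [Subgroup.coe_pow]
  refine or_congr eq_comm ⟨fun h => ?_, fun h => by rw [h, hι.apply_apply]⟩
  conv_rhs => rw [h, hι.apply_apply]

omit [Fintype α] [DecidableEq α] in
include hι in
theorem ker_sq {g : Subgroup.centralizer ({ι} : Set (Perm α))} (hg : toOrb hι g = 1) :
    g * g = 1 := by
  refine Subtype.ext (Equiv.ext fun a => ?_)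
  show (g : Perm α) ((g : Perm α) a) = a
  by_cases ha : ι a = a
  · have h : ι ((g : Perm α) a) = (g : Perm α) a := by rw [moved_apply g.2, ha]
    rw [hι.2 _ _ h ha, hι.2 _ _ h ha]
  · have h := Quotient.exact (Equiv.congr_fun hg (Quotient.mk _ ⟨a, ha⟩))
    rcases h with h | h
    · exact (congrArg (g : Perm α) h.symm).trans h.symm
    · have h' : (g : Perm α) a = ι a := by
        conv_rhs => rw [show a = ι ((g : Perm α) a) from h, hι.apply_apply]
      rw [h', ← moved_apply g.2, h', hι.apply_apply]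

include hι in
omit [Fintype α] in
theorem swap_mem (a : α) : Equiv.swap a (ι a) ∈ Subgroup.centralizer ({ι} : Set (Perm α)) := by
  rw [Subgroup.mem_centralizer_singleton_iff, mul_inv_eq_iff_eq_mul.mp (Equiv.swap_apply_apply ι a (ι a)).symm,
    hι.apply_apply, Equiv.swap_comm (ι a) a]

omit [Fintype α] in
theorem toOrb_swap (a : α) : toOrb hι ⟨_, swap_mem hι a⟩ = 1 := by
  refine Equiv.ext fun c => Quotient.inductionOn c fun b => Quotient.sound ?_
  show (b : α) = Equiv.swap a (ι a) b ∨ (b : α) = ι (Equiv.swap a (ι a) b)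
  by_cases h1 : (b : α) = a
  · rw [h1, Equiv.swap_apply_left, hι.apply_apply]; exact Or.inr rfl
  by_cases h2 : (b : α) = ι a
  · rw [h2, Equiv.swap_apply_right]; exact Or.inr rfl
  · exact Or.inl (Equiv.swap_apply_of_ne_of_ne h1 h2).symm

omit [Fintype α] in
theorem card_orb_lt [Finite α] [Nonempty {a : α // ι a ≠ a}] : Nat.card (Orb hι) < Nat.card α := by
  obtain ⟨a⟩ := ‹Nonempty {a : α // ι a ≠ a}›
  have h1 : Nat.card (Orb hι) < Nat.card {a : α // ι a ≠ a} := by
    refine lt_of_le_of_ne (Nat.card_le_card_of_surjective _ Quotient.mk_surjective) fun e => ?_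
    have hinj := ((Nat.bijective_iff_surjective_and_card (Quotient.mk (setoid hι))).2
      ⟨Quotient.mk_surjective, e.symm⟩).1
    exact a.2 (congrArg Subtype.val (hinj (a₁ := a) (a₂ := ⟨ι a, hι.moved a.2⟩) (Quotient.sound (Or.inr rfl)))).symm
  exact h1.trans_le (Nat.card_le_card_of_injective _ Subtype.val_injective)

end Orbits

/-! ### Sylow subgroups and full involutions -/

omit [DecidableEq α] in
theorem full_support [DecidableEq α] {ι : Perm α} (h : IsFull ι) :
    Fintype.card α ≤ ι.support.card + 1 := by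
  have : ι.supportᶜ.card ≤ 1 := Finset.card_le_one.2 fun a ha b hb => by
    simp only [Finset.mem_compl, Perm.mem_support, ne_eq, not_not] at ha hb
    exact h.2 a b ha hb
  rw [Finset.card_compl] at this
  omega

theorem full_conj {ι κ : Perm α} (h : IsFull ι) (h' : IsFull κ) : IsConj ι κ := by
  have key : ∀ σ : Perm α, IsFull σ →
      σ.cycleType = Multiset.replicate (Fintype.card α / 2) 2 := by
    intro σ hσ
    have hmem : ∀ m ∈ σ.cycleType, m = 2 := fun m hm => by
      have h1 := (Perm.dvd_of_mem_cycleType hm).trans (orderOf_dvd_of_pow_eq_one (by rw [pow_two]; exact hσ.1))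
      have h2 := Perm.two_le_of_mem_cycleType hm
      have h3 := Nat.le_of_dvd (by norm_num) h1
      omega
    have hr := Multiset.eq_replicate_card.2 hmem
    have hs := Perm.sum_cycleType σ
    rw [hr, Multiset.sum_replicate, smul_eq_mul] at hs
    have h1 := full_support hσ
    have h2 : σ.support.card ≤ Fintype.card α := Finset.card_le_univ _
    rw [show Fintype.card α / 2 = Multiset.card σ.cycleType by omega]
    exact hr
  exact Perm.isConj_iff_cycleType_eq.2 ((key ι h).trans (key κ h').symm)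

omit [Fintype α] [DecidableEq α] in
theorem IsFull.conj {ι : Perm α} (h : IsFull ι) (c : Perm α) : IsFull (c * ι * c⁻¹) := by
  refine ⟨by rw [show c * ι * c⁻¹ * (c * ι * c⁻¹) = c * (ι * ι) * c⁻¹ by group, h.1]; group,
    fun a b ha hb => c⁻¹.injective (h.2 _ _ ?_ ?_)⟩
  · conv_rhs => rw [← ha]
    simp
  · conv_rhs => rw [← hb]
    simp

theorem exists_base : ∃ (P : Sylow 2 (Perm α)) (ι : Perm α), IsFull ι ∧
    (P : Subgroup (Perm α)) ≤ Subgroup.centralizer {ι} := by
  obtain ⟨m, e, he, hne⟩ : ∃ m e, e ≤ 1 ∧ Fintype.card α = m * 2 + e :=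
    ⟨Fintype.card α / 2, Fintype.card α % 2, by omega, by omega⟩
  obtain ⟨Q⟩ : Nonempty (Sylow 2 (Perm (Fin m))) := inferInstance
  have hc : Nat.card (Pre (e := e) (Q : Subgroup (Perm (Fin m)))) =
      2 ^ (Nat.card (Perm (Pts m e))).factorization 2 := by
    rw [card_pre, Q.card_eq_multiplicity, factorization_card_perm he, pow_add]
  let E : Pts m e ≃ α := Fintype.equivOfCardEq (by simp [hne])
  let ι₀ : Perm (Pts m e) := ⟨partner, partner, partner_partner, partner_partner⟩
  have hι₀ : IsFull (E.permCongr ι₀) := by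
    refine ⟨Equiv.ext fun a => by simp [ι₀, partner_partner], fun a b ha hb => E.symm.injective ?_⟩
    simp [ι₀] at ha hb
    have hfix : ∀ u, partner (m := m) (e := e) u = u → ∃ x, u = .inr x := by
      rintro (⟨c, d⟩ | x) hu
      · simp [partner] at hu
      · exact ⟨x, rfl⟩
    obtain ⟨x, hx⟩ := hfix _ (E.injective (by rw [ha, E.apply_symm_apply]))
    obtain ⟨y, hy⟩ := hfix _ (E.injective (by rw [hb, E.apply_symm_apply]))
    rw [hx, hy]
    exact congrArg _ (Fin.ext (by omega))
  let Φ : Perm (Pts m e) ≃* Perm α := E.permCongrHom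
  refine ⟨Sylow.ofCard ((Pre (e := e) (Q : Subgroup (Perm (Fin m)))).map Φ.toMonoidHom) ?_, _, hι₀, ?_⟩
  · rw [Subgroup.card_map_of_injective Φ.injective, hc, Nat.card_congr Φ.toEquiv]
  · rintro _ ⟨σ, ⟨q, -, hσ⟩, rfl⟩
    rw [Subgroup.mem_centralizer_singleton_iff]
    refine Equiv.ext fun a => ?_
    simp [Φ, ι₀, Equiv.permCongrHom, hσ.partner_apply]

theorem exists_full (P : Sylow 2 (Perm α)) :
    ∃ ι : Perm α, IsFull ι ∧ (P : Subgroup (Perm α)) ≤ Subgroup.centralizer {ι} := by
  obtain ⟨P₀, ι, hι, hP₀⟩ := exists_base (α := α)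
  obtain ⟨w, rfl⟩ := MulAction.exists_smul_eq (Perm α) P₀ P
  refine ⟨w * ι * w⁻¹, hι.conj w, fun y hy => ?_⟩
  rw [Sylow.coe_subgroup_smul, Subgroup.mem_pointwise_smul_iff_inv_smul_mem] at hy
  have h := Subgroup.mem_centralizer_singleton_iff.1 (hP₀ hy)
  rw [Subgroup.mem_centralizer_singleton_iff]
  simp [MulAut.conj_apply] at h
  calc y * (w * ι * w⁻¹) = w * (w⁻¹ * y * w * ι) * w⁻¹ := by group
    _ = w * (ι * (w⁻¹ * y * w)) * w⁻¹ := by rw [h]
    _ = _ := by group

/-- The Sylow subgroups of the centraliser of a full involution are Sylow subgroups. -/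
theorem exists_sylow_ge {ι : Perm α} (hι : IsFull ι) (H : Subgroup (Perm α)) (hH : IsPGroup 2 H)
    (hle : H ≤ Subgroup.centralizer {ι}) :
    ∃ P : Sylow 2 (Perm α), H ≤ P ∧ (P : Subgroup (Perm α)) ≤ Subgroup.centralizer {ι} := by
  set C := Subgroup.centralizer ({ι} : Set (Perm α))
  have hidx : ¬ 2 ∣ C.index := by
    obtain ⟨P₀, κ, hκ, hP₀⟩ := exists_base (α := α)
    obtain ⟨c, hc⟩ := isConj_iff.1 (full_conj hκ hι)
    have hle' : ((c • P₀ : Sylow 2 (Perm α)) : Subgroup (Perm α)) ≤ C := by
      intro y hy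
      rw [Sylow.coe_subgroup_smul, Subgroup.mem_pointwise_smul_iff_inv_smul_mem] at hy
      have h := Subgroup.mem_centralizer_singleton_iff.1 (hP₀ hy)
      simp [MulAut.conj_apply] at h
      rw [Subgroup.mem_centralizer_singleton_iff, ← hc]
      calc y * (c * κ * c⁻¹) = c * (c⁻¹ * y * c * κ) * c⁻¹ := by group
        _ = c * (κ * (c⁻¹ * y * c)) * c⁻¹ := by rw [h]
        _ = _ := by group
    exact fun h => (c • P₀).not_dvd_index (h.trans (Subgroup.index_dvd_of_le hle'))
  obtain ⟨R, hR⟩ := (hH.comap_of_injective C.subtype Subtype.val_injective).exists_le_sylow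
  have hRc : ¬ 2 ∣ ((R : Subgroup C).map C.subtype).index := by
    rw [Subgroup.index_map_subtype]
    exact fun h => ((Nat.Prime.dvd_mul Nat.prime_two).1 h).elim R.not_dvd_index hidx
  refine ⟨(R.2.map C.subtype).toSylow hRc, fun y hy => ⟨⟨y, hle hy⟩, hR hy, rfl⟩, ?_⟩
  rintro _ ⟨y, -, rfl⟩
  exact y.2

/-- A Sylow subgroup in the centraliser contains the flips. -/
theorem flips_mem {ι : Perm α} (hι : IsFull ι) (P : Sylow 2 (Perm α))
    (hP : (P : Subgroup (Perm α)) ≤ Subgroup.centralizer {ι})
    {g : Subgroup.centralizer ({ι} : Set (Perm α))} (hg : toOrb hι g = 1) :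
    (g : Perm α) ∈ (P : Subgroup (Perm α)) := by
  let C := Subgroup.centralizer ({ι} : Set (Perm α))
  set K := (toOrb hι).ker
  have hK : IsPGroup 2 K := fun k => ⟨1, Subtype.ext (by
    show ((k : C)) ^ 2 ^ 1 = 1
    rw [pow_one, pow_two]; exact ker_sq hι k.2)⟩
  have hP' : IsPGroup 2 ((P : Subgroup (Perm α)).subgroupOf C) :=
    P.2.comap_of_injective C.subtype Subtype.val_injective
  have hsup := hK.to_sup_of_normal_left hP' |> fun h => h.map C.subtype
  have hle : (P : Subgroup (Perm α)) ≤ (K ⊔ (P : Subgroup (Perm α)).subgroupOf C).map C.subtype :=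
    fun y hy => ⟨⟨y, hP hy⟩, Subgroup.mem_sup_right hy, rfl⟩
  have := P.is_maximal' hsup hle
  rw [← this]
  exact ⟨g, Subgroup.mem_sup_left (MonoidHom.mem_ker.2 hg), rfl⟩

theorem full_unique {ι κ : Perm α} (hι : IsFull ι) (hκ : IsFull κ) (P : Sylow 2 (Perm α))
    (h : (P : Subgroup (Perm α)) ≤ Subgroup.centralizer {ι})
    (h' : (P : Subgroup (Perm α)) ≤ Subgroup.centralizer {κ}) : ι = κ := by
  have key : ∀ a, ι a ≠ a → κ a = ι a := by
    intro a ha
    have hsw := Subgroup.mem_centralizer_singleton_iff.1 (h' (flips_mem hι P h (toOrb_swap hι a)))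
    have e : Equiv.swap (κ a) (κ (ι a)) = Equiv.swap a (ι a) := by
      rw [Equiv.swap_apply_apply, mul_inv_eq_iff_eq_mul]
      exact hsw.symm
    have h1 := Equiv.congr_fun e (κ a)
    rw [Equiv.swap_apply_left] at h1
    have hne : κ a ≠ κ (ι a) := fun e' => ha (κ.injective e').symm
    by_cases hka : κ a = a
    · exfalso
      rw [hka, Equiv.swap_apply_left] at h1
      exact ha (hκ.2 _ _ h1 hka)
    by_contra hki
    rw [Equiv.swap_apply_of_ne_of_ne hka hki] at h1
    exact hne h1.symm
  ext a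
  by_cases ha : ι a = a
  · rw [ha]
    by_contra hk
    have hb : ι (κ a) ≠ κ a := fun e => hk (hι.2 _ _ e ha).symm
    have h1 := key _ hb
    rw [hκ.apply_apply] at h1
    have h2 := congrArg ι h1
    rw [ha, hι.apply_apply] at h2
    exact hk h2
  · exact (key a ha).symm

/-! ### The criterion -/

/-- At most two fixed points, and cycles of one length coincide. -/
def Good (x : Perm α) : Prop :=
  (∀ a b, per x a = per x b → 1 < per x a → x.SameCycle a b) ∧
    ∀ a b c, x a = a → x b = b → x c = c → a = b ∨ a = c ∨ b = c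

theorem full_apply {x ι : Perm α} (hG : Good x) (hx : ∃ k, x ^ 2 ^ k = 1) (hι : IsFull ι)
    (hc : Commute ι x) {a : α} (ha : x a ≠ a) : ι a = (x ^ (per x a / 2)) a := by
  have h1 : per x a ≠ 1 := fun e => ha ((per_eq_one_iff x a).1 e)
  have hp := per_pos x a
  obtain ⟨i, hi⟩ := hG.1 a (ι a) (per_commute hc a).symm (by omega)
  have hne : ι a ≠ a := by
    intro e
    have e2 := Equiv.congr_fun hc.eq a
    rw [Perm.mul_apply, Perm.mul_apply, e] at e2
    exact ha (hι.2 _ _ e2 e)
  have h2 : (x ^ (i + i)) a = a := by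
    rw [zpow_add, Perm.mul_apply, hi]
    have e2 := Equiv.congr_fun (hc.zpow_right i).eq a
    rw [Perm.mul_apply, Perm.mul_apply] at e2
    rw [← e2, hi, hι.apply_apply]
  obtain ⟨d, hd⟩ := two_dvd_per hx ha
  rw [zpow_apply_eq_iff, hd] at h2
  obtain ⟨t, ht⟩ := h2
  have hit : i = d * t := by push_cast at ht; linarith
  have hodd : ¬ (2 : ℤ) ∣ t := by
    rintro ⟨u, rfl⟩
    refine hne (hi.symm.trans ((zpow_apply_eq_iff x a i).2 ⟨u, ?_⟩))
    rw [hit, hd]; push_cast; ring
  obtain ⟨u, hu⟩ : ∃ u, t = 2 * u + 1 := ⟨t / 2, by omega⟩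
  rw [← hi, hd, Nat.mul_div_cancel_left _ two_pos, hit, hu, show (d : ℤ) * (2 * u + 1) = (d : ℤ) + (per x a : ℤ) * u by
    rw [hd]; push_cast; ring, zpow_add, Perm.mul_apply, (zpow_apply_eq_iff x a _).2 (dvd_mul_right _ _), zpow_natCast]

theorem full_eq {x ι κ : Perm α} (hG : Good x) (hx : ∃ k, x ^ 2 ^ k = 1) (hι : IsFull ι) (hκ : IsFull κ)
    (h : Commute ι x) (h' : Commute κ x) : ι = κ := by
  ext a
  by_cases ha : x a = a
  · have hfix : ∀ σ : Perm α, Commute σ x → x (σ a) = σ a := fun σ hσ => by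
      have := Equiv.congr_fun hσ.eq a
      rw [Perm.mul_apply, Perm.mul_apply, ha] at this
      exact this.symm
    by_cases hia : ι a = a
    · rw [hia]
      by_contra hk
      rcases hG.2 a (κ a) (ι (κ a)) ha (hfix κ h') (by
        have := Equiv.congr_fun h.eq (κ a)
        rw [Perm.mul_apply, Perm.mul_apply, hfix κ h'] at this
        exact this.symm) with e | e | e
      · exact hk e
      · have := congrArg ι e
        rw [hia, hι.apply_apply] at this
        exact hk this
      · exact hk (hι.2 _ _ hia e.symm)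
    · rcases hG.2 a (ι a) (κ a) ha (hfix ι h) (hfix κ h') with e | e | e
      · exact absurd e.symm hia
      · have hb : x (ι a) = ι a := hfix ι h
        have hkb : x (κ (ι a)) = κ (ι a) := by
          have := Equiv.congr_fun h'.eq (ι a)
          rw [Perm.mul_apply, Perm.mul_apply, hb] at this
          exact this.symm
        rcases hG.2 a (ι a) (κ (ι a)) ha hb hkb with e' | e' | e'
        · exact absurd e'.symm hia
        · have := congrArg κ e'
          rw [← e, hκ.apply_apply] at this
          exact absurd this.symm hia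
        · exact absurd (hκ.2 _ _ e'.symm e.symm) hia
      · exact e
  · rw [full_apply hG hx hι h ha, full_apply hG hx hκ h' ha]

theorem good_toOrb {x ι : Perm α} (hG : Good x) (hx : ∃ k, x ^ 2 ^ k = 1) (hι : IsFull ι)
    (hc : Commute ι x) [DecidableEq (Orb hι)] [Fintype (Orb hι)] :
    Good (toOrb hι ⟨x, Subgroup.mem_centralizer_singleton_iff.2 hc.symm.eq⟩) := by
  set X := toOrb hι ⟨x, Subgroup.mem_centralizer_singleton_iff.2 hc.symm.eq⟩
  have hper : ∀ a : {a : α // ι a ≠ a}, per X (Quotient.mk _ a) = if x a = a then 1 else per x a / 2 := by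
    intro a
    by_cases ha : x a = a
    · rw [if_pos ha, per_eq_one_iff]
      have h1 : (X ^ 1) (Quotient.mk _ a) = Quotient.mk _ a :=
        (toOrb_pow hι _ 1 a).2 (Or.inl (by rw [pow_one]; exact ha))
      rwa [pow_one] at h1
    rw [if_neg ha]
    obtain ⟨d, hd⟩ := two_dvd_per hx ha
    have hia : ι a = (x ^ d) a := by
      rw [full_apply hG hx hι hc ha, hd, Nat.mul_div_cancel_left _ two_pos]
    rw [hd, Nat.mul_div_cancel_left _ two_pos]
    refine Nat.dvd_antisymm ?_ ?_
    · rw [← pow_apply_eq_iff, toOrb_pow]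
      exact Or.inr hia.symm
    · have h := (toOrb_pow hι _ (per X (Quotient.mk _ a)) a).1 ((pow_apply_eq_iff X _ _).2 dvd_rfl)
      rcases h with h | h
      · exact Dvd.dvd.trans (hd ▸ dvd_mul_left d 2) ((pow_apply_eq_iff x a _).1 h)
      · change (x ^ per X (Quotient.mk _ a)) a = _ at h
        have h2 : (x ^ (per X (Quotient.mk _ a) + d)) a = a := by
          rw [add_comm, pow_add, Perm.mul_apply, h]
          have := Equiv.congr_fun (hc.pow_right d).eq a
          rw [Perm.mul_apply, Perm.mul_apply] at this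
          rw [← this, ← hia, hι.apply_apply]
        have h3 := (pow_apply_eq_iff x a _).1 h2
        exact (Nat.dvd_add_left dvd_rfl).1 ((hd ▸ dvd_mul_left d 2).trans h3)
  constructor
  · intro u v
    induction u using Quotient.inductionOn with | _ a => ?_
    induction v using Quotient.inductionOn with | _ b => ?_
    intro hab hlt
    rw [hper] at hab hlt
    rw [hper] at hab
    by_cases ha : x a = a
    · rw [if_pos ha] at hlt; omega
    rw [if_neg ha] at hab hlt
    by_cases hb : x b = b
    · rw [if_pos hb] at hab; omega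
    rw [if_neg hb] at hab
    have h2a := two_dvd_per hx ha
    have h2b := two_dvd_per hx hb
    obtain ⟨i, hi⟩ := hG.1 a b (by omega) (by omega)
    refine ⟨i, ?_⟩
    rw [← map_zpow]
    exact Quotient.sound (Or.inl (by rw [← hi]; rfl))
  · intro u v w
    induction u using Quotient.inductionOn with | _ a => ?_
    induction v using Quotient.inductionOn with | _ b => ?_
    induction w using Quotient.inductionOn with | _ c => ?_
    intro ha hb hc'
    have hp : ∀ z : {a : α // ι a ≠ a}, X (Quotient.mk _ z) = Quotient.mk _ z → x z = z ∨ per x z = 2 := by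
      intro z hz
      by_cases hxz : x z = z
      · exact Or.inl hxz
      have h := hper z
      rw [if_neg hxz, (per_eq_one_iff X _).2 hz] at h
      have := two_dvd_per hx hxz
      right; omega
    have hfixed : ∀ y z : {a : α // ι a ≠ a}, x y = y → x z = z →
        (Quotient.mk (setoid hι) y = Quotient.mk _ z) := by
      intro y z hy hz
      refine Quotient.sound ?_
      have hiy : x (ι y) = ι y := by
        have := Equiv.congr_fun hc.eq y
        rw [Perm.mul_apply, Perm.mul_apply, hy] at this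
        exact this.symm
      rcases hG.2 y (ι y) z hy hiy hz with e | e | e
      · exact absurd e.symm y.2
      · exact Or.inl e.symm
      · exact Or.inr e.symm
    have htwo : ∀ y z : {a : α // ι a ≠ a}, per x y = 2 → per x z = 2 →
        (Quotient.mk (setoid hι) y = Quotient.mk _ z) := by
      intro y z hy hz
      refine Quotient.sound ?_
      obtain ⟨i, hi⟩ := hG.1 y z (hy.trans hz.symm) (by omega)
      have hy' : x y ≠ y := fun e => by have := (per_eq_one_iff x y).2 e; omega
      have hiy : ι y = x y := by rw [full_apply hG hx hι hc hy', hy]; simp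
      rcases Int.even_or_odd i with ⟨j, hj⟩ | ⟨j, hj⟩
      · refine Or.inl ?_
        rw [← hi, (zpow_apply_eq_iff x y i).2 (by rw [hy, hj]; exact ⟨j, by push_cast; ring⟩)]
      · refine Or.inr ?_
        rw [← hi, hiy, hj, add_comm, zpow_add, Perm.mul_apply,
          (zpow_apply_eq_iff x y (2 * j)).2 (by rw [hy]; exact ⟨j, by push_cast; ring⟩), zpow_one]
    rcases hp a ha with h1 | h1 <;> rcases hp b hb with h2 | h2 <;> rcases hp c hc' with h3 | h3
    all_goals first
      | exact Or.inl (hfixed a b h1 h2)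
      | exact Or.inl (htwo a b h1 h2)
      | exact Or.inr (Or.inl (hfixed a c h1 h3))
      | exact Or.inr (Or.inl (htwo a c h1 h3))
      | exact Or.inr (Or.inr (hfixed b c h2 h3))
      | exact Or.inr (Or.inr (htwo b c h2 h3))

universe u

theorem unique_of_good (n : ℕ) : ∀ {α : Type u} [Fintype α] [DecidableEq α], Nat.card α ≤ n →
    ∀ x : Perm α, (∃ k, x ^ 2 ^ k = 1) → Good x →
      ∀ P Q : Sylow 2 (Perm α), x ∈ (P : Subgroup (Perm α)) → x ∈ (Q : Subgroup (Perm α)) → P = Q := by
  classical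
  induction n with
  | zero =>
    intro α _ _ hn x _ _ P Q _ _
    haveI : IsEmpty α := Fintype.card_eq_zero_iff.1 (by rw [← Nat.card_eq_fintype_card]; omega)
    exact Sylow.ext (Subsingleton.elim _ _)
  | succ n ih =>
    intro α _ _ hn x hx hG P Q hxP hxQ
    obtain ⟨ι, hι, hPι⟩ := exists_full P
    obtain ⟨κ, hκ, hQκ⟩ := exists_full Q
    have hcι : Commute ι x := (Subgroup.mem_centralizer_singleton_iff.1 (hPι hxP)).symm
    have hcκ : Commute κ x := (Subgroup.mem_centralizer_singleton_iff.1 (hQκ hxQ)).symm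
    obtain rfl : ι = κ := full_eq hG hx hι hκ hcι hcκ
    by_cases hne : Nonempty {a : α // ι a ≠ a}
    swap
    · haveI : Subsingleton α := ⟨fun a b => hι.2 a b
        (by by_contra h; exact hne ⟨⟨a, h⟩⟩) (by by_contra h; exact hne ⟨⟨b, h⟩⟩)⟩
      exact Sylow.ext (Subsingleton.elim _ _)
    haveI := hne
    haveI : Fintype (Orb hι) := Fintype.ofFinite _
    set C := Subgroup.centralizer ({ι} : Set (Perm α))
    set φ := toOrb hι
    obtain ⟨R, hR⟩ : ∃ R : Sylow 2 (Perm (Orb hι)), ∀ S : Sylow 2 (Perm α), (S : Subgroup (Perm α)) ≤ C →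
        x ∈ (S : Subgroup (Perm α)) →
        (S : Subgroup (Perm α)).subgroupOf C ≤ (R : Subgroup (Perm (Orb hι))).comap φ := by
      have hp : ∀ S : Sylow 2 (Perm α), IsPGroup 2 (((S : Subgroup (Perm α)).subgroupOf C).map φ) :=
        fun S => (S.2.comap_of_injective C.subtype Subtype.val_injective).map φ
      obtain ⟨R, hR⟩ := (hp P).exists_le_sylow
      refine ⟨R, fun S hS hxS => ?_⟩
      obtain ⟨R', hR'⟩ := (hp S).exists_le_sylow
      have hlt := card_orb_lt hι
      have := ih (α := Orb hι) (by omega) (φ ⟨x, hPι hxP⟩)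
        (hx.imp fun k hk => by rw [← map_pow, show (⟨x, hPι hxP⟩ : C) ^ 2 ^ k = 1 from Subtype.ext hk, map_one])
        (good_toOrb hG hx hι hcι) R R' (hR ⟨_, hxP, rfl⟩) (hR' ⟨⟨x, hPι hxP⟩, hxS, rfl⟩)
      exact Subgroup.map_le_iff_le_comap.1 (this ▸ hR')
    set M := ((R : Subgroup (Perm (Orb hι))).comap φ).map C.subtype
    have hM : IsPGroup 2 M := by
      refine IsPGroup.map ?_ _
      rintro ⟨g, hg⟩
      obtain ⟨k, hk⟩ := R.2 ⟨φ g, hg⟩
      refine ⟨k + 1, Subtype.ext ?_⟩
      show g ^ 2 ^ (k + 1) = 1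
      rw [pow_succ, pow_mul, pow_two]
      exact ker_sq hι (by rw [map_pow]; exact congrArg Subtype.val hk)
    have key : ∀ S : Sylow 2 (Perm α), (S : Subgroup (Perm α)) ≤ C → x ∈ (S : Subgroup (Perm α)) → M = S :=
      fun S hS hxS => S.is_maximal' hM fun y hy => ⟨⟨y, hS hy⟩, hR S hS hxS hy, rfl⟩
    exact Sylow.ext ((key P hPι hxP).symm.trans (key Q hQκ hxQ))

theorem commuting_unique {x : Perm α} (hx : ∃ k, x ^ 2 ^ k = 1)
    (h : ∀ P Q : Sylow 2 (Perm α), x ∈ (P : Subgroup (Perm α)) → x ∈ (Q : Subgroup (Perm α)) → P = Q)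
    {ι κ : Perm α} (hι : IsFull ι) (hκ : IsFull κ) (hcι : Commute ι x) (hcκ : Commute κ x) : ι = κ := by
  obtain ⟨k, hk⟩ := hx
  have hp : IsPGroup 2 (Subgroup.zpowers x) :=
    IsPGroup.of_card (n := Classical.choose ((Nat.dvd_prime_pow Nat.prime_two).1 (orderOf_dvd_of_pow_eq_one hk)))
      ((Nat.card_zpowers x).trans (Classical.choose_spec ((Nat.dvd_prime_pow Nat.prime_two).1 (orderOf_dvd_of_pow_eq_one hk))).2)
  obtain ⟨P, hP, hPι⟩ := exists_sylow_ge hι _ hp
    (Subgroup.zpowers_le.2 (Subgroup.mem_centralizer_singleton_iff.2 hcι.symm.eq))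
  obtain ⟨Q, hQ, hQκ⟩ := exists_sylow_ge hκ _ hp
    (Subgroup.zpowers_le.2 (Subgroup.mem_centralizer_singleton_iff.2 hcκ.symm.eq))
  obtain rfl := h P Q (hP (Subgroup.mem_zpowers x)) (hQ (Subgroup.mem_zpowers x))
  exact full_unique hι hκ P hPι hQκ

/-- A modification of a full involution on an invariant set. -/
theorem exists_modify {x ι : Perm α} (hι : IsFull ι) (hc : Commute ι x) (S : α → Prop) [DecidablePred S]
    (hS : ∀ z, S z → S (ι z)) (hSx : ∀ z, S z ↔ S (x z)) (t : α → α) (htS : ∀ z, S z → S (t z))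
    (htt : ∀ z, S z → t (t z) = z) (htne : ∀ z, S z → t z ≠ z) (htx : ∀ z, S z → t (x z) = x (t z)) :
    ∃ κ : Perm α, IsFull κ ∧ Commute κ x ∧ ∀ z, S z → κ z = t z := by
  have hout : ∀ z, ¬ S z → ¬ S (ι z) := fun z hz h => hz (by rw [← hι.apply_apply z]; exact hS _ h)
  have hinv : Function.Involutive fun z => if S z then t z else ι z := by
    intro z
    by_cases hz : S z
    · simp only [if_pos hz, if_pos (htS z hz), htt z hz]
    · simp only [if_neg hz, if_neg (hout z hz), hι.apply_apply]
  refine ⟨hinv.toPerm, ⟨Equiv.ext hinv, fun a b ha hb => ?_⟩, Equiv.ext fun z => ?_, fun z hz => if_pos hz⟩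
  · have hS' : ∀ c, (if S c then t c else ι c) = c → ι c = c := fun c hc' => by
      by_cases hcS : S c
      · rw [if_pos hcS] at hc'; exact absurd hc' (htne c hcS)
      · rwa [if_neg hcS] at hc'
    exact hι.2 a b (hS' a ha) (hS' b hb)
  · show (if S (x z) then t (x z) else ι (x z)) = x (if S z then t z else ι z)
    by_cases hz : S z
    · rw [if_pos hz, if_pos ((hSx z).1 hz), htx z hz]
    · rw [if_neg hz, if_neg fun h => hz ((hSx z).2 h)]
      exact Equiv.congr_fun hc.eq z

theorem good_of_unique {x : Perm α} (hx : ∃ k, x ^ 2 ^ k = 1)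
    (h : ∀ P Q : Sylow 2 (Perm α), x ∈ (P : Subgroup (Perm α)) → x ∈ (Q : Subgroup (Perm α)) → P = Q) :
    Good x := by
  classical
  obtain ⟨k, hk⟩ := hx
  obtain ⟨i, -, hi⟩ := (Nat.dvd_prime_pow Nat.prime_two).1 (orderOf_dvd_of_pow_eq_one hk)
  obtain ⟨P, hP⟩ := (IsPGroup.of_card ((Nat.card_zpowers x).trans hi)).exists_le_sylow (G := Perm α)
  obtain ⟨ι, hι, hPι⟩ := exists_full P
  have hc : Commute ι x := (Subgroup.mem_centralizer_singleton_iff.1 (hPι (hP (Subgroup.mem_zpowers x)))).symm
  have huniq : ∀ κ, IsFull κ → Commute κ x → κ = ι := fun κ hκ hκc =>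
    commuting_unique ⟨k, hk⟩ h hκ hι hκc hc
  constructor
  · intro a b hab hlt
    have hmove : ∀ z, per x z = per x a → x z ≠ z := fun z hz e => by
      have := (per_eq_one_iff x z).2 e; omega
    obtain ⟨d, hd⟩ := two_dvd_per ⟨k, hk⟩ (hmove a rfl)
    have hd0 : 0 < d := by omega
    have hant : ∀ z, per x z = per x a → (x ^ d) ((x ^ d) z) = z ∧ (x ^ d) z ≠ z := by
      intro z hz
      refine ⟨?_, fun e => ?_⟩
      · rw [← Perm.mul_apply, ← pow_add, pow_apply_eq_iff, hz, hd, two_mul]
      · rw [pow_apply_eq_iff, hz, hd] at e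
        have := Nat.le_of_dvd hd0 e
        omega
    have hpe : ∀ z w : α, x.SameCycle z w → per x w = per x z := fun z w hzw => (per_congr hzw).symm
    -- every cycle of this length is invariant under the involution
    have hinvar : ∀ c, per x c = per x a → x.SameCycle c (ι c) := by
      intro c hcp
      by_contra hcc
      obtain ⟨κ, hκ, hκc, hκS⟩ := exists_modify hι hc (fun z => x.SameCycle c z ∨ x.SameCycle (ι c) z)
        (by
          rintro z (hz | hz)
          · exact Or.inr (sameCycle_commute hc hz)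
          · exact Or.inl (by have := sameCycle_commute hc hz; rwa [hι.apply_apply] at this))
        (fun z => by rw [sameCycle_apply_right, sameCycle_apply_right]) (fun z => (x ^ d) z)
        (fun z hz => hz.imp (fun h => sameCycle_pow_right.2 h) (fun h => sameCycle_pow_right.2 h))
        (fun z hz => (hant z (hz.elim (fun h => (hpe c z h).trans hcp)
          (fun h => (hpe _ z h).trans ((per_commute hc c).trans hcp)))).1)
        (fun z hz => (hant z (hz.elim (fun h => (hpe c z h).trans hcp)
          (fun h => (hpe _ z h).trans ((per_commute hc c).trans hcp)))).2)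
        (fun z _ => Equiv.congr_fun ((Commute.refl x).pow_left d).eq z)
      have e := hκS c (Or.inl (SameCycle.refl x c))
      rw [huniq κ hκ hκc] at e
      exact hcc (e ▸ sameCycle_pow_right.2 (SameCycle.refl x c))
    by_contra hnot
    have hshift : ∀ i j : ℤ, (x ^ i) a = (x ^ j) a ↔ (x ^ i) b = (x ^ j) b := by
      intro i j
      have e : ∀ c, ((x ^ i) c = (x ^ j) c ↔ (x ^ (i - j)) c = c) := fun c => by
        rw [show i = j + (i - j) by ring, zpow_add, Perm.mul_apply, Equiv.apply_eq_iff_eq]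
        simp
      rw [e, e, zpow_apply_eq_iff, zpow_apply_eq_iff, hab]
    set t : α → α := fun z =>
      if hz : x.SameCycle a z then (x ^ hz.choose) b
      else if hz' : x.SameCycle b z then (x ^ hz'.choose) a else z
    have hta : ∀ i : ℤ, t ((x ^ i) a) = (x ^ i) b := by
      intro i
      have hz : x.SameCycle a ((x ^ i) a) := ⟨i, rfl⟩
      simp only [t, dif_pos hz]
      exact (hshift _ _).1 hz.choose_spec
    have htb : ∀ i : ℤ, t ((x ^ i) b) = (x ^ i) a := by
      intro i
      have hz : x.SameCycle b ((x ^ i) b) := ⟨i, rfl⟩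
      have hna : ¬ x.SameCycle a ((x ^ i) b) := fun e => hnot (e.trans hz.symm)
      simp only [t, dif_neg hna, dif_pos hz]
      exact (hshift _ _).2 hz.choose_spec
    obtain ⟨κ, hκ, hκc, hκS⟩ := exists_modify hι hc (fun z => x.SameCycle a z ∨ x.SameCycle b z)
      (by
        rintro z (hz | hz)
        · exact Or.inl ((hinvar a rfl).trans (sameCycle_commute hc hz))
        · exact Or.inr ((hinvar b hab.symm).trans (sameCycle_commute hc hz)))
      (fun z => by rw [sameCycle_apply_right, sameCycle_apply_right]) t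
      (by
        rintro _ (⟨i, rfl⟩ | ⟨i, rfl⟩)
        · rw [hta]; exact Or.inr ⟨i, rfl⟩
        · rw [htb]; exact Or.inl ⟨i, rfl⟩)
      (by rintro _ (⟨i, rfl⟩ | ⟨i, rfl⟩) <;> simp only [hta, htb])
      (by
        rintro _ (⟨i, rfl⟩ | ⟨i, rfl⟩) e
        · rw [hta] at e; exact hnot ((x ^ i).injective e.symm ▸ SameCycle.refl x a)
        · rw [htb] at e; exact hnot ((x ^ i).injective e ▸ SameCycle.refl x a))
      (by
        rintro _ (⟨i, rfl⟩ | ⟨i, rfl⟩)
        · rw [← Perm.mul_apply, ← zpow_one_add, hta, hta, zpow_one_add, Perm.mul_apply]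
        · rw [← Perm.mul_apply, ← zpow_one_add, htb, htb, zpow_one_add, Perm.mul_apply])
    have e := hκS a (Or.inl (SameCycle.refl x a))
    have h0 := hta 0
    simp only [zpow_zero, Perm.one_apply] at h0
    rw [huniq κ hκ hκc, h0] at e
    exact hnot (e ▸ hinvar a rfl)
  · intro a b c ha hb hc'
    by_contra hne
    push Not at hne
    obtain ⟨hab, hac, hbc⟩ := hne
    -- a moved one among the three
    obtain ⟨u, hu, v, hv, hui, huv, hiv⟩ : ∃ u, x u = u ∧ ∃ v, x v = v ∧ ι u ≠ u ∧ v ≠ u ∧ v ≠ ι u := by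
      have pick : ∀ u v w, x u = u → x v = v → x w = w → v ≠ u → w ≠ u → v ≠ w → ι u ≠ u →
          ∃ u, x u = u ∧ ∃ v, x v = v ∧ ι u ≠ u ∧ v ≠ u ∧ v ≠ ι u := by
        intro u v w hu hv hw hvu hwu hvw hmv
        by_cases e : v = ι u
        · exact ⟨u, hu, w, hw, hmv, hwu, fun e' => hvw (e.trans e'.symm)⟩
        · exact ⟨u, hu, v, hv, hmv, hvu, e⟩
      by_cases h1 : ι a = a
      · exact pick b a c hb ha hc' hab hbc.symm hac fun h2 => hab (hι.2 _ _ h1 h2)
      · exact pick a b c ha hb hc' hab.symm hac.symm hbc h1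
    have hxi : x (ι u) = ι u := by
      have := Equiv.congr_fun hc.eq u
      rw [Perm.mul_apply, Perm.mul_apply, hu] at this
      exact this.symm
    set τ := Equiv.swap (ι u) v
    have hτc : Commute τ x := by
      refine (mul_inv_eq_iff_eq_mul.mp ?_).symm
      rw [← Equiv.swap_apply_apply, hxi, hv]
    have hcm : Commute (τ * ι * τ⁻¹) x := (hτc.mul_left hc).mul_left hτc.inv_left
    have e := Equiv.congr_fun (huniq _ (hι.conj τ) hcm) u
    rw [Perm.mul_apply, Perm.mul_apply] at e
    have hτu : τ⁻¹ u = u := by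
      rw [Equiv.swap_inv, Equiv.swap_apply_of_ne_of_ne (Ne.symm hui) huv.symm]
    rw [hτu, Equiv.swap_apply_left] at e
    exact hiv e

theorem good_iff {x : Perm α} :
    Good x ↔ Fintype.card α ≤ x.support.card + 2 ∧ x.cycleType.Nodup := by
  have hcard : ∀ a, x a ≠ a → per x a = (x.cycleOf a).support.card := fun a ha =>
    (isCycle_cycleOf x ha).orderOf
  have hnd : x.cycleType.Nodup ↔
      ∀ σ ∈ x.cycleFactorsFinset, ∀ τ ∈ x.cycleFactorsFinset, σ.support.card = τ.support.card → σ = τ := by
    rw [Perm.cycleType_def, Multiset.nodup_map_iff_inj_on x.cycleFactorsFinset.nodup]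
    rfl
  have hfix : (∀ a b c, x a = a → x b = b → x c = c → a = b ∨ a = c ∨ b = c) ↔
      Fintype.card α ≤ x.support.card + 2 := by
    have hs : ∀ z, z ∈ x.supportᶜ ↔ x z = z := fun z => by simp
    have hcc := Finset.card_compl x.support
    have hle : x.support.card ≤ Fintype.card α := Finset.card_le_univ _
    constructor
    · intro h
      by_contra hlt
      push Not at hlt
      obtain ⟨a, b, c, ha, hb, hc, hab, hac, hbc⟩ := Finset.two_lt_card_iff.1 (show 2 < x.supportᶜ.card by omega)
      rcases h a b c ((hs a).1 ha) ((hs b).1 hb) ((hs c).1 hc) with e | e | e <;> contradiction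
    · intro h a b c ha hb hc
      by_contra hne
      push Not at hne
      have : 2 < x.supportᶜ.card :=
        Finset.two_lt_card_iff.2 ⟨a, b, c, (hs a).2 ha, (hs b).2 hb, (hs c).2 hc, hne.1, hne.2.1, hne.2.2⟩
      omega
  constructor
  · rintro ⟨h1, h2⟩
    refine ⟨hfix.1 h2, hnd.2 fun σ hσ τ hτ e => ?_⟩
    obtain ⟨hσc, hσa⟩ := mem_cycleFactorsFinset_iff.1 hσ
    obtain ⟨hτc, hτa⟩ := mem_cycleFactorsFinset_iff.1 hτ
    obtain ⟨a, ha⟩ := hσc.nonempty_support
    obtain ⟨b, hb⟩ := hτc.nonempty_support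
    have eσ := cycle_is_cycleOf ha hσ
    have eτ := cycle_is_cycleOf hb hτ
    have hxa : x a ≠ a := by rw [← hσa a ha]; exact mem_support.1 ha
    have hxb : x b ≠ b := by rw [← hτa b hb]; exact mem_support.1 hb
    have hpa : per x a = σ.support.card := by rw [hcard a hxa, ← eσ]
    have hpb : per x b = τ.support.card := by rw [hcard b hxb, ← eτ]
    have h2' := hσc.two_le_card_support
    rw [eσ, eτ, (h1 a b (by omega) (by omega)).cycleOf_eq]
  · rintro ⟨h2, h1⟩
    refine ⟨fun a b hab hlt => ?_, hfix.2 h2⟩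
    have hxa : x a ≠ a := fun e => by have := (per_eq_one_iff x a).2 e; omega
    have hxb : x b ≠ b := fun e => by have := (per_eq_one_iff x b).2 e; omega
    have e := hnd.1 h1 _ (cycleOf_mem_cycleFactorsFinset_iff.2 (mem_support.2 hxa)) _
      (cycleOf_mem_cycleFactorsFinset_iff.2 (mem_support.2 hxb)) (by rw [← hcard a hxa, ← hcard b hxb, hab])
    have hb : b ∈ (x.cycleOf a).support := by
      rw [e, mem_support, cycleOf_apply_self]; exact hxb
    exact (mem_support_cycleOf_iff.1 hb).1

end CfsgLib.SylowTwoSym.Unique
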